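import Groth.Agent.Lib.BiratForms6.Frame
import Groth.Agent.Lib.RefHull26.Closed
import Mathlib.AlgebraicGeometry.Morphisms.Smooth

/-!
# Tensor forms from their values on derivations of the function field

`exists_section_of_values`: on a normal smooth variety a block alternating function on derivations of the
function field, with values in each local ring of dimension one on derivations of that ring, comes from a
global tensor form.
-/

set_option autoImplicit false
set_option backward.isDefEq.respectTransparency false
set_option backward.isDefEq.respectTransparency.types false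
set_option linter.style.haveILetI false

universe u

open CategoryTheory AlgebraicGeometry Opposite TopologicalSpace IsLocalRing

noncomputable section

namespace Groth.Agent.BiratForms6

open AlmostR6

variable {k : Type u} [Field k] {X : Scheme.{u}} {f : X ⟶ Spec (CommRingCat.of k)} [IsIntegral X]
  [QuasiSeparated f]

/-- A derivation of the function field extends one of a local ring. -/
def Extends {p : X} :
    letI := stalkAlgebra f p
    letI := stalkAlgebra f (genericPoint X)
    Derivation k (X.presheaf.stalk p) (X.presheaf.stalk p) →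
      Derivation k (X.presheaf.stalk (genericPoint X)) (X.presheaf.stalk (genericPoint X)) → Prop :=
  fun D D' => ∀ a, D' (X.presheaf.stalkSpecializes (RH26.gsp p) a) = X.presheaf.stalkSpecializes (RH26.gsp p) (D a)

variable (f) in
theorem exists_extends (p : X) :
    letI := stalkAlgebra f p
    letI := stalkAlgebra f (genericPoint X)
    ∀ D : Derivation k (X.presheaf.stalk p) (X.presheaf.stalk p),
      ∃ D' : Derivation k (X.presheaf.stalk (genericPoint X)) (X.presheaf.stalk (genericPoint X)), Extends D D' := by
  letI := stalkAlgebra f p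
  letI : Algebra k X.functionField := stalkAlgebra f (genericPoint X)
  intro D
  haveI : IsScalarTower k (X.presheaf.stalk p) X.functionField := IsScalarTower.of_algebraMap_eq fun c =>
    (stalkSpecializes_algebraMap (f := f) (RH26.gsp p) c).symm
  exact exists_extend (nonZeroDivisors (X.presheaf.stalk p))
    ((Algebra.linearMap (X.presheaf.stalk p) X.functionField).compDer D)

variable (f) in
theorem extends_unique {p : X} :
    letI := stalkAlgebra f p
    letI := stalkAlgebra f (genericPoint X)
    ∀ (D : Derivation k (X.presheaf.stalk p) (X.presheaf.stalk p))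
      (D' D'' : Derivation k (X.presheaf.stalk (genericPoint X)) (X.presheaf.stalk (genericPoint X))),
      Extends D D' → Extends D D'' → D' = D'' := by
  letI := stalkAlgebra f p
  letI : Algebra k X.functionField := stalkAlgebra f (genericPoint X)
  intro D D' D'' h' h''
  refine Derivation.ext fun x => ?_
  obtain ⟨⟨a, b⟩, hab⟩ := IsLocalization.surj (nonZeroDivisors (X.presheaf.stalk p)) (show X.functionField from x)
  change (x : X.functionField) * X.presheaf.stalkSpecializes (RH26.gsp p) (b : X.presheaf.stalk p) =
    X.presheaf.stalkSpecializes (RH26.gsp p) a at hab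
  have e' := congrArg D' hab
  have e'' := congrArg D'' hab
  simp only [Derivation.leibniz, smul_eq_mul, h' _] at e'
  simp only [Derivation.leibniz, smul_eq_mul, h'' _] at e''
  have hb : (X.presheaf.stalkSpecializes (RH26.gsp p) (b : X.presheaf.stalk p) : X.functionField) ≠ 0 :=
    (map_ne_zero_iff _ (RH26.sp_injective p)).2 (nonZeroDivisors.ne_zero b.2)
  exact mul_left_cancel₀ hb (add_left_cancel (e'.trans e''.symm))

variable [Smooth f] {i n : ℕ} {L : X.Modules} (hL : ExtPow.IsExtPow i (Omega.sheaf f) L)

/-- A block alternating function on derivations of the function field is determined by extended tuples. -/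
theorem eq_zero_of_extends {p : X} :
    letI := stalkAlgebra f p
    letI := stalkAlgebra f (genericPoint X)
    ∀ (φ : (Fin n × Fin i → Derivation k (X.presheaf.stalk (genericPoint X)) (X.presheaf.stalk (genericPoint X))) →
        X.presheaf.stalk (genericPoint X)) (_ : IsBlockAlt φ)
      (_ : ∀ (D : Fin n × Fin i → Derivation k (X.presheaf.stalk p) (X.presheaf.stalk p)) D',
        (∀ t, Extends (D t) (D' t)) → φ D' = 0) D', φ D' = 0 := by
  letI := stalkAlgebra f p
  letI := stalkAlgebra f (genericPoint X)
  classical
  intro φ hφ h D'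
  obtain ⟨W, hW, hpW, ι, hι, ⟨b⟩⟩ := exists_forms_basis (f := f) p
  haveI := Fintype.ofFinite ι
  have hηW : genericPoint X ∈ W := (RH26.gsp p).mem_open W.2 hpW
  obtain ⟨D, hD⟩ := exists_dual_ders hW b hpW
  obtain ⟨Dη, hDη⟩ := exists_dual_ders hW b hηW
  have hext : ∀ l, Extends (D l) (Dη l) := by
    intro l
    refine DFunLike.congr_fun (leibniz_ext hW hpW (X.presheaf.stalkSpecializes (RH26.gsp p)).hom
      ((Dη l).toLinearMap.toAddMonoidHom.comp (X.presheaf.stalkSpecializes (RH26.gsp p)).hom.toAddMonoidHom)
      ((X.presheaf.stalkSpecializes (RH26.gsp p)).hom.toAddMonoidHom.comp (D l).toLinearMap.toAddMonoidHom)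
      (fun a b => ?_) (fun a b => ?_) fun a => ?_)
    · show Dη l ((X.presheaf.stalkSpecializes (RH26.gsp p)).hom (a * b)) = _
      rw [map_mul, Derivation.leibniz]; rfl
    · show (X.presheaf.stalkSpecializes (RH26.gsp p)).hom (D l (a * b)) = _
      rw [Derivation.leibniz, smul_eq_mul, smul_eq_mul, map_add, map_mul, map_mul]; rfl
    · show Dη l (X.presheaf.stalkSpecializes (RH26.gsp p) (X.presheaf.germ W p hpW a)) =
        X.presheaf.stalkSpecializes (RH26.gsp p) (D l (X.presheaf.germ W p hpW a))
      rw [hD, TopCat.Presheaf.germ_stalkSpecializes_apply, TopCat.Presheaf.germ_stalkSpecializes_apply, hDη]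
  let M : MultilinearMap (X.presheaf.stalk (genericPoint X))
      (fun _ : Fin n × Fin i => Derivation k (X.presheaf.stalk (genericPoint X)) (X.presheaf.stalk (genericPoint X)))
      (X.presheaf.stalk (genericPoint X)) :=
    { toFun := φ
      map_update_add' := fun {inst} D t a b => by
        obtain rfl : inst = instDecidableEqProd := Subsingleton.elim _ _
        exact hφ.add D t a b
      map_update_smul' := fun {inst} D t c a => by
        obtain rfl : inst = instDecidableEqProd := Subsingleton.elim _ _
        exact hφ.smul D t c a }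
  show M D' = 0
  rw [show D' = fun t => ∑ l, lam (isOver_id _) (D' t) hW hηW (b l) • Dη l from
    funext fun t => der_expand hW b hηW Dη hDη (D' t), MultilinearMap.map_sum]
  refine Finset.sum_eq_zero fun α _ => ?_
  rw [MultilinearMap.map_smul_univ]
  refine smul_eq_zero_of_right _ ?_
  exact h (fun t => D (α t)) _ fun t => hext (α t)

theorem Lam_extends {p : X} (z : (CohB1.tensorPow L n).presheaf.stalk p) :
    letI := stalkAlgebra f p
    letI := stalkAlgebra f (genericPoint X)
    ∀ (D : Fin n × Fin i → Derivation k (X.presheaf.stalk p) (X.presheaf.stalk p)) D',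
      (∀ t, Extends (D t) (D' t)) →
      Lam hL (isOver_id (genericPoint X)) n D' ((CohB1.tensorPow L n).presheaf.stalkSpecializes (RH26.gsp p) z) =
        X.presheaf.stalkSpecializes (RH26.gsp p) (Lam hL (isOver_id p) n D z) := by
  letI := stalkAlgebra f p
  letI := stalkAlgebra f (genericPoint X)
  intro D D' h
  exact Lam_comp hL (isOver_id p) (X.presheaf.stalkSpecializes (RH26.gsp p)).hom (RH26.gsp p)
    (isOver_id (genericPoint X)) rfl n D D' (fun t a => h t a) z

include hL in
/-- The stalks of the tensor forms inject into the generic one. -/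
theorem sp_injective_pow (p : X) :
    Function.Injective ((CohB1.tensorPow L n).presheaf.stalkSpecializes (RH26.gsp p)) := by
  letI := stalkAlgebra f p
  letI := stalkAlgebra f (genericPoint X)
  refine (injective_iff_map_eq_zero _).2 fun z hz => eq_zero_of_Lam hL p n z fun D => ?_
  choose D' hD' using fun t => exists_extends f p (D t)
  have h := Lam_extends hL z D D' hD'
  rw [hz, map_zero] at h
  exact (map_eq_zero_iff _ (RH26.sp_injective p)).1 h.symm

include hL in
/-- Sections with equal generic values are equal. -/
theorem eq_of_values (s s' : Γ(CohB1.tensorPow L n, ⊤))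
    (h : letI := stalkAlgebra f (genericPoint X)
      ∀ D', Lam hL (isOver_id (genericPoint X)) n D' ((CohB1.tensorPow L n).presheaf.germ ⊤ (genericPoint X) trivial s) =
        Lam hL (isOver_id (genericPoint X)) n D' ((CohB1.tensorPow L n).presheaf.germ ⊤ (genericPoint X) trivial s')) :
    s = s' := by
  letI := stalkAlgebra f (genericPoint X)
  refine TopCat.Presheaf.section_ext ⟨(CohB1.tensorPow L n).presheaf, (CohB1.tensorPow L n).isSheaf⟩ ⊤ s s'
    fun p hp => sp_injective_pow hL p ?_
  refine (TopCat.Presheaf.germ_stalkSpecializes_apply (CohB1.tensorPow L n).presheaf (U := ⊤) trivial (RH26.gsp p) s).trans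
    (Eq.trans ?_ (TopCat.Presheaf.germ_stalkSpecializes_apply (CohB1.tensorPow L n).presheaf (U := ⊤) trivial
      (RH26.gsp p) s').symm)
  rw [← sub_eq_zero]
  exact eq_zero_of_Lam hL _ n _ fun D' => by rw [map_sub, h D', sub_self]

variable [IsLocallyNoetherian X]

include hL in
/-- A section from its values. -/
theorem exists_section_of_values (hX : Pi1.IsNormalScheme X) :
    letI := stalkAlgebra f (genericPoint X)
    ∀ (φ : (Fin n × Fin i → Derivation k (X.presheaf.stalk (genericPoint X)) (X.presheaf.stalk (genericPoint X))) →
        X.presheaf.stalk (genericPoint X)) (_ : IsBlockAlt φ)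
      (_ : ∀ ξ : X, ringKrullDim (X.presheaf.stalk ξ) = 1 →
        letI := stalkAlgebra f ξ
        ∀ (D : Fin n × Fin i → Derivation k (X.presheaf.stalk ξ) (X.presheaf.stalk ξ)) D',
          (∀ t, Extends (D t) (D' t)) → ∃ a, X.presheaf.stalkSpecializes (RH26.gsp ξ) a = φ D'),
      ∃ s : Γ(CohB1.tensorPow L n, ⊤), ∀ D',
        Lam hL (isOver_id (genericPoint X)) n D' ((CohB1.tensorPow L n).presheaf.germ ⊤ (genericPoint X) trivial s) =
          φ D' := by
  letI := stalkAlgebra f (genericPoint X)
  classical
  intro φ hφ hval
  obtain ⟨zη, hzη⟩ := exists_Lam_eq hL (genericPoint X) n φ hφ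
  have hp : ∀ p : X, ∃ z : (CohB1.tensorPow L n).presheaf.stalk p,
      (CohB1.tensorPow L n).presheaf.stalkSpecializes (RH26.gsp p) z = zη := by
    intro p
    letI := stalkAlgebra f p
    choose ext hext using exists_extends f p
    have hmem : ∀ D : Fin n × Fin i → Derivation k (X.presheaf.stalk p) (X.presheaf.stalk p),
        ∃ a, X.presheaf.stalkSpecializes (RH26.gsp p) a = φ fun t => ext (D t) := by
      intro D
      refine RH26.mem_range_sp hX p _ fun ξ hξ hdim => ?_
      letI := stalkAlgebra f ξ
      letI := (DivDesc12.sp hξ).toAlgebra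
      haveI := LocFact12.isLocalization_sp hξ
      haveI : IsScalarTower k (X.presheaf.stalk p) (X.presheaf.stalk ξ) := IsScalarTower.of_algebraMap_eq fun c =>
        (stalkSpecializes_algebraMap (f := f) hξ c).symm
      choose Dξ hDξ using fun t => exists_extend (DivDesc12.primeAt hξ).primeCompl
        ((Algebra.linearMap (X.presheaf.stalk p) (X.presheaf.stalk ξ)).compDer (D t))
      choose Dξ' hDξ' using fun t => exists_extends f ξ (Dξ t)
      obtain ⟨a, ha⟩ := hval ξ hdim Dξ Dξ' hDξ'
      refine ⟨a, ha.trans (congrArg φ (funext fun t => ?_))⟩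
      refine extends_unique f (D t) _ _ (fun b => ?_) (hext (D t))
      have hb := hDξ' t (X.presheaf.stalkSpecializes hξ b)
      rw [show Dξ t (X.presheaf.stalkSpecializes hξ b) = X.presheaf.stalkSpecializes hξ (D t b) from hDξ t b,
        RH26.sp_trans', RH26.sp_trans'] at hb
      exact hb
    choose φp hφp using hmem
    have hupd : ∀ (D : Fin n × Fin i → Derivation k (X.presheaf.stalk p) (X.presheaf.stalk p)) t x,
        (fun s => ext (Function.update D t x s)) = Function.update (fun s => ext (D s)) t (ext x) := fun D t x =>
      funext fun s => Function.apply_update (fun _ => ext) D t x s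
    have hadd : ∀ x y, ext (x + y) = ext x + ext y := fun x y =>
      extends_unique f (x + y) _ _ (hext _) fun a => by
        rw [Derivation.add_apply, Derivation.add_apply, map_add, hext, hext]
    have hsmul : ∀ c x, ext (c • x) = X.presheaf.stalkSpecializes (RH26.gsp p) c • ext x := fun c x =>
      extends_unique f (c • x) _ _ (hext _) fun a => by
        rw [Derivation.smul_apply, Derivation.smul_apply, smul_eq_mul, smul_eq_mul, map_mul, hext]
    have hinj := RH26.sp_injective p
    obtain ⟨z, hz⟩ := exists_Lam_eq hL p n φp
      { add := fun D t x y => hinj (by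
          rw [map_add, hφp, hφp, hφp, hupd, hupd, hupd, hadd]
          exact hφ.add _ _ _ _)
        smul := fun D t c x => hinj (by
          rw [map_mul, hφp, hφp, hupd, hupd, hsmul]
          exact hφ.smul _ _ _ _)
        alt := fun D a b b' hb h => hinj (by
          rw [map_zero, hφp]
          exact hφ.alt _ a b b' hb (congrArg ext h)) }
    refine ⟨z, sub_eq_zero.1 (eq_zero_of_Lam hL _ n _ ?_)⟩
    refine eq_zero_of_extends (p := p) _ (isBlockAlt_Lam hL (isOver_id (genericPoint X)) _) fun D D' hDD' => ?_
    rw [map_sub, hzη, Lam_extends hL z D D' hDD', hz, hφp,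
      show D' = fun t => ext (D t) from funext fun t => extends_unique f (D t) _ _ (hDD' t) (hext _), sub_self]
  choose z hz using hp
  choose U hpU t ht using fun p => (CohB1.tensorPow L n).presheaf.germ_exist (z p)
  have hη : ∀ p, (CohB1.tensorPow L n).presheaf.germ (U p) (genericPoint X) ((RH26.gsp p).mem_open (U p).2 (hpU p)) (t p) = zη := by
    intro p
    rw [← TopCat.Presheaf.germ_stalkSpecializes_apply (CohB1.tensorPow L n).presheaf (hpU p) (RH26.gsp p), ht, hz]
  obtain ⟨s, hs, -⟩ := TopCat.Sheaf.existsUnique_gluing' ⟨(CohB1.tensorPow L n).presheaf, (CohB1.tensorPow L n).isSheaf⟩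
    U ⊤ (fun p => homOfLE le_top) (fun p _ => Opens.mem_iSup.2 ⟨p, hpU p⟩) t (fun p q => by
      refine TopCat.Presheaf.section_ext ⟨(CohB1.tensorPow L n).presheaf, (CohB1.tensorPow L n).isSheaf⟩ _ _ _
        fun x hx => sp_injective_pow hL x ?_
      refine (TopCat.Presheaf.germ_stalkSpecializes_apply (CohB1.tensorPow L n).presheaf hx (RH26.gsp x) _).trans
        (Eq.trans ?_ (TopCat.Presheaf.germ_stalkSpecializes_apply (CohB1.tensorPow L n).presheaf hx (RH26.gsp x) _).symm)
      exact (TopCat.Presheaf.germ_res_apply (CohB1.tensorPow L n).presheaf _ _ _ _).trans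
        ((hη p).trans ((hη q).symm.trans (TopCat.Presheaf.germ_res_apply (CohB1.tensorPow L n).presheaf _ _ _ _).symm)))
  refine ⟨s, fun D' => ?_⟩
  rw [← hzη D']
  congr 1
  rw [← hη (genericPoint X), ← hs (genericPoint X)]
  exact (TopCat.Presheaf.germ_res_apply (CohB1.tensorPow L n).presheaf _ _ _ _).symm

end Groth.Agent.BiratForms6
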