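import Groth.Agent.Lib.AlmostR6.Curve
import Mathlib.LinearAlgebra.Alternating.Basic
import Mathlib.Data.Fin.Tuple.Sort

/-!
# Tensor forms at a point are the block alternating functions of derivations

`exists_Lam_eq`: on a smooth scheme every block alternating multilinear function on tuples of derivations of a
local ring is the value function of a germ of `(Ω^i)^{⊗ n}`.
-/

set_option autoImplicit false
set_option backward.isDefEq.respectTransparency false
set_option backward.isDefEq.respectTransparency.types false
set_option linter.style.haveILetI false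

universe u

open CategoryTheory AlgebraicGeometry Opposite TopologicalSpace IsLocalRing

noncomputable section

namespace Groth.Agent.BiratForms6

open AlmostR6

variable {k : Type u} [Field k]

/-- Multilinear in all slots, alternating inside each block. -/
structure IsBlockAlt {O : Type u} [CommRing O] [Algebra k O] {n i : ℕ}
    (φ : (Fin n × Fin i → Derivation k O O) → O) : Prop where
  add : ∀ D t x y, φ (Function.update D t (x + y)) = φ (Function.update D t x) + φ (Function.update D t y)
  smul : ∀ D t (c : O) x, φ (Function.update D t (c • x)) = c * φ (Function.update D t x)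
  alt : ∀ D a b b', b ≠ b' → D (a, b) = D (a, b') → φ D = 0

variable {X : Scheme.{u}} {f : X ⟶ Spec (CommRingCat.of k)} [QuasiSeparated f] {i : ℕ} {L : X.Modules}
  (hL : ExtPow.IsExtPow i (Omega.sheaf f) L)

theorem isBlockAlt_Lam {p : X} {O : Type u} [CommRing O] [Algebra k O] {ψ : X.presheaf.stalk p →+* O}
    (hψ : IsOver f ψ) {n : ℕ} (z : (CohB1.tensorPow L n).presheaf.stalk p) :
    IsBlockAlt fun D => Lam hL hψ n D z where
  add D t x y := Lam_update_add hL hψ n D t x y z
  smul D t c x := Lam_update_smul hL hψ n D t c x z
  alt D a b b' hb h := Lam_eq_zero_of_eq hL hψ n D a hb h z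

/-- An injective tuple is an increasing one up to order. -/
theorem exists_sorted {ι : Type u} [LinearOrder ι] {i : ℕ} (v : Fin i → ι) (hv : Function.Injective v) :
    ∃ (S : Set.powersetCard ι i) (τ : Equiv.Perm (Fin i)), v = (Set.powersetCard.ofFinEmbEquiv.symm S : Fin i → ι) ∘ τ := by
  have hs : StrictMono (v ∘ Tuple.sort v) :=
    (Tuple.monotone_sort v).strictMono_of_injective (hv.comp (Tuple.sort v).injective)
  refine ⟨Set.powersetCard.ofFinEmbEquiv (OrderEmbedding.ofStrictMono _ hs), (Tuple.sort v).symm, ?_⟩
  rw [Equiv.symm_apply_apply]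
  funext a
  simp

set_option maxHeartbeats 1000000 in
/-- A frame at a point together with dual tuples, which separate alternating functions. -/
theorem exists_frame_alt [Smooth f] (p : X) :
    letI := stalkAlgebra f p
    ∃ (J : Type u) (_ : Fintype J) (e : J → L.presheaf.stalk p)
      (DS : J → Fin i → Derivation k (X.presheaf.stalk p) (X.presheaf.stalk p)),
      (∀ S, L1 hL (isOver_id p) (DS S) (e S) = 1) ∧ (∀ S T, S ≠ T → L1 hL (isOver_id p) (DS S) (e T) = 0) ∧
      ∀ g : AlternatingMap (X.presheaf.stalk p) (Derivation k (X.presheaf.stalk p) (X.presheaf.stalk p))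
          (X.presheaf.stalk p) (Fin i), (∀ S, g (DS S) = 0) → g = 0 := by
  letI := stalkAlgebra f p
  classical
  obtain ⟨W, hW, hpW, ι, hι, ⟨b⟩⟩ := exists_forms_basis (f := f) p
  haveI := Fintype.ofFinite ι
  letI : LinearOrder ι := LinearOrder.lift' (Fintype.equivFin ι) (Equiv.injective _)
  obtain ⟨D, hD⟩ := exists_dual_ders hW b hpW
  have hlam : ∀ l x, lam (isOver_id p) (D l) hW hpW x = X.presheaf.germ W p hpW (b.coord l x) := by
    intro l x
    refine DFunLike.congr_fun (ext_forms hW (onOpen (RingHom.id _) hpW) (lam (isOver_id p) (D l) hW hpW)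
      ((X.presheaf.germ W p hpW).hom.toAddMonoidHom.comp (b.coord l).toAddMonoidHom)
      (fun r x => lam_smul (isOver_id p) _ hW hpW r x) (fun r x => ?_) fun r => ?_) x
    · show X.presheaf.germ W p hpW (b.coord l (r • x)) = _
      rw [map_smul, smul_eq_mul, map_mul]
      rfl
    · rw [lam_d]
      exact hD l r
  let J := Set.powersetCard ι i
  let fam : J → Fin i → ι := fun S => Set.powersetCard.ofFinEmbEquiv.symm S
  let e : J → L.presheaf.stalk p := fun S => L.presheaf.germ W p hpW (wedge hL hW fun a => b (fam S a))
  let DS : J → Fin i → Derivation k (X.presheaf.stalk p) (X.presheaf.stalk p) := fun S a => D (fam S a)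
  have hpair : ∀ S T, L1 hL (isOver_id p) (DS S) (e T) =
      X.presheaf.germ W p hpW (exteriorPower.ιMultiDual Γ(X, W) i b S
        (exteriorPower.ιMulti_family Γ(X, W) i b T)) := by
    intro S T
    show L1 hL (isOver_id p) (DS S) (L.presheaf.germ W p hpW _) = _
    rw [L1_germ hL (isOver_id p) _ hW hpW, lamExt_wedge, exteriorPower.ιMulti_family,
      exteriorPower.ιMultiDual_apply_ιMulti]
    erw [RingHom.map_det]
    congr 1
    ext a a'
    exact hlam _ _
  refine ⟨J, Fintype.ofFinite J, e, DS, fun S => by rw [hpair, exteriorPower.ιMultiDual_apply_diag, map_one],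
    fun S T hST => by rw [hpair, exteriorPower.ιMultiDual_apply_nondiag _ _ _ _ _ hST, map_zero], fun g hg => ?_⟩
  refine AlternatingMap.ext fun E => ?_
  rw [AlternatingMap.zero_apply,
    show E = fun c => ∑ l, lam (isOver_id p) (E c) hW hpW (b l) • D l from funext fun c => der_expand hW b hpW D hD (E c)]
  show g.toMultilinearMap _ = 0
  rw [MultilinearMap.map_sum]
  refine Finset.sum_eq_zero fun α _ => ?_
  rw [MultilinearMap.map_smul_univ]
  refine smul_eq_zero_of_right _ ?_
  show g (fun c => D (α c)) = 0
  by_cases hα : Function.Injective α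
  · obtain ⟨S, τ, hτ⟩ := exists_sorted α hα
    rw [show (fun c => D (α c)) = DS S ∘ τ from funext fun c => congrArg D (congrFun hτ c), AlternatingMap.map_perm,
      hg, smul_zero]
  · simp only [Function.Injective, not_forall] at hα
    obtain ⟨a, a', haa, hne⟩ := hα
    exact g.map_eq_zero_of_eq _ (congrArg D haa) hne

/-- The first blocks and a last block. -/
abbrev glueD {O : Type u} [CommRing O] [Algebra k O] {n i : ℕ} (D' : Fin n × Fin i → Derivation k O O)
    (E : Fin i → Derivation k O O) : Fin (n + 1) × Fin i → Derivation k O O :=
  fun x => Fin.lastCases (E x.2) (fun j => D' (j, x.2)) x.1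

theorem glueD_update_left {O : Type u} [CommRing O] [Algebra k O] {n i : ℕ}
    (D' : Fin n × Fin i → Derivation k O O) (E : Fin i → Derivation k O O) (t : Fin n × Fin i)
    (x : Derivation k O O) : glueD (Function.update D' t x) E = Function.update (glueD D' E) (t.1.castSucc, t.2) x := by
  funext ⟨a, b⟩
  refine Fin.lastCases ?_ (fun j => ?_) a
  · rw [Function.update_of_ne (fun h => Fin.castSucc_ne_last t.1 (congrArg Prod.fst h).symm)]
    simp [glueD]
  · by_cases h : (j, b) = t
    · subst h
      simp [glueD]
    · rw [Function.update_of_ne (fun e => h (by simpa [Prod.ext_iff] using e))]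
      simp [glueD, Function.update_of_ne h]

theorem glueD_update_right {O : Type u} [CommRing O] [Algebra k O] {n i : ℕ}
    (D' : Fin n × Fin i → Derivation k O O) (E : Fin i → Derivation k O O) (b : Fin i)
    (x : Derivation k O O) : glueD D' (Function.update E b x) = Function.update (glueD D' E) (Fin.last n, b) x := by
  funext ⟨a, b'⟩
  refine Fin.lastCases ?_ (fun j => ?_) a
  · by_cases h : b' = b
    · subst h
      simp [glueD]
    · rw [Function.update_of_ne (fun e => h (congrArg Prod.snd e))]
      simp [glueD, Function.update_of_ne h]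
  · rw [Function.update_of_ne (fun e => Fin.castSucc_ne_last j (congrArg Prod.fst e))]
    simp [glueD]

include hL in
/-- Every block alternating function is the value function of a germ. -/
theorem exists_Lam_eq [Smooth f] (p : X) :
    letI := stalkAlgebra f p
    ∀ (n : ℕ) (φ : (Fin n × Fin i → Derivation k (X.presheaf.stalk p) (X.presheaf.stalk p)) → X.presheaf.stalk p),
      IsBlockAlt φ → ∃ z : (CohB1.tensorPow L n).presheaf.stalk p, ∀ D, Lam hL (isOver_id p) n D z = φ D := by
  letI := stalkAlgebra f p
  classical
  obtain ⟨J, hJ, e, DS, hone, hzero, halt⟩ := exists_frame_alt hL p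
  intro n
  induction n with
  | zero =>
    intro φ _
    refine ⟨RH26.str p (φ fun x => x.1.elim0), fun D => ?_⟩
    rw [Lam_zero, LinearEquiv.symm_apply_apply, RingHom.id_apply]
    exact congrArg φ (funext fun x => x.1.elim0)
  | succ n ih =>
    intro φ hφ
    have hS : ∀ S, ∃ z : (CohB1.tensorPow L n).presheaf.stalk p,
        ∀ D', Lam hL (isOver_id p) n D' z = φ (glueD D' (DS S)) := fun S => ih _
      { add := fun D t x y => by simp only [glueD_update_left]; exact hφ.add _ _ _ _
        smul := fun D t c x => by simp only [glueD_update_left]; exact hφ.smul _ _ _ _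
        alt := fun D a b b' hb h => hφ.alt _ a.castSucc b b' hb (by simpa [glueD] using h) }
    choose z hz using hS
    refine ⟨∑ S, pure n (z S) (e S), fun D => ?_⟩
    have hD : glueD (initD D) (lastD D) = D := by
      funext ⟨a, b⟩
      refine Fin.lastCases ?_ (fun j => ?_) a <;> simp [glueD]
    let ψ := fun E : Fin i → Derivation k (X.presheaf.stalk p) (X.presheaf.stalk p) =>
      Lam hL (isOver_id p) (n + 1) (glueD (initD D) E) (∑ S, pure n (z S) (e S)) - φ (glueD (initD D) E)
    have hψ := isBlockAlt_Lam hL (isOver_id p) (∑ S, pure n (z S) (e S))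
    let g : AlternatingMap (X.presheaf.stalk p) (Derivation k (X.presheaf.stalk p) (X.presheaf.stalk p))
        (X.presheaf.stalk p) (Fin i) :=
      { toFun := ψ
        map_update_add' := fun {inst} E b x y => by
          obtain rfl : inst = instDecidableEqFin i := Subsingleton.elim _ _
          simp only [ψ, glueD_update_right, hψ.add, hφ.add]
          ring
        map_update_smul' := fun {inst} E b c x => by
          obtain rfl : inst = instDecidableEqFin i := Subsingleton.elim _ _
          simp only [ψ, glueD_update_right, hψ.smul, hφ.smul, smul_eq_mul]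
          ring
        map_eq_zero_of_eq' := fun E b b' h hb => by
          simp only [ψ]
          rw [hψ.alt _ (Fin.last n) b b' hb (by simpa [glueD] using h),
            hφ.alt _ (Fin.last n) b b' hb (by simpa [glueD] using h), sub_zero] }
    have hg : g = 0 := halt g fun S => by
      have hi : initD (glueD (initD D) (DS S)) = initD D := funext fun x => by simp [glueD, initD]
      have hl : lastD (glueD (initD D) (DS S)) = DS S := funext fun x => by simp [glueD, lastD]
      show ψ (DS S) = 0
      simp only [ψ, map_sum, Lam_pure, hi, hl]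
      rw [Finset.sum_eq_single S (fun T _ hT => by rw [hzero S T (Ne.symm hT), mul_zero]) (by simp), hone, mul_one,
        hz, sub_self]
    have h := DFunLike.congr_fun hg (lastD D)
    change ψ (lastD D) = 0 at h
    simp only [ψ, hD, sub_eq_zero] at h
    exact h

end Groth.Agent.BiratForms6
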