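import Groth.Agent.Lib.BiratForms6.Extend
import Groth.Agent.Lib.RefHull26.Normal
import Groth.Agent.Lib.RegSmooth17.Scheme
import Groth.Agent.Lib.CurveCoh17.Skyscraper
import Groth.Agent.Lib.CurveCoh17.LES
import Groth.Agent.Lib.TensorMod.Invertible
import Mathlib.AlgebraicGeometry.Morphisms.Proper

/-!
# Birational invariance of global tensor forms
-/

set_option autoImplicit false
set_option backward.isDefEq.respectTransparency false
set_option backward.isDefEq.respectTransparency.types false
set_option linter.style.haveILetI false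

universe u

open CategoryTheory AlgebraicGeometry Opposite TopologicalSpace IsLocalRing

noncomputable section

namespace Groth.Agent.BiratForms6

open AlmostR6

variable {k : Type u} [Field k]

section Gen

variable {X S : Scheme.{u}} [IsIntegral X] [IsIntegral S]

theorem bijective_stalkSpecializes_of_eq {x y : X} (h : x = y) :
    Function.Bijective (X.presheaf.stalkSpecializes (specializes_of_eq h)) := by
  subst h
  rw [TopCat.Presheaf.stalkSpecializes_refl]
  exact Function.bijective_id

/-- An open immersion on the generic local rings. -/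
def genEquiv (a : S ⟶ X) [IsOpenImmersion a] :
    X.presheaf.stalk (genericPoint X) ≃+* S.presheaf.stalk (genericPoint S) :=
  RingEquiv.ofBijective ((X.presheaf.stalkSpecializes (specializes_of_eq (genericPoint_eq_of_isOpenImmersion a)) ≫
      a.stalkMap (genericPoint S)).hom)
    (((ConcreteCategory.isIso_iff_bijective (a.stalkMap (genericPoint S))).1 inferInstance).comp
      (bijective_stalkSpecializes_of_eq (genericPoint_eq_of_isOpenImmersion a)))

theorem genEquiv_algebraMap (a : S ⟶ X) [IsOpenImmersion a] (f : X ⟶ Spec (CommRingCat.of k)) (c : k) :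
    letI := stalkAlgebra f (genericPoint X)
    genEquiv a (algebraMap k (X.presheaf.stalk (genericPoint X)) c) =
      S.presheaf.germ ⊤ (genericPoint S) trivial ((a ≫ f).appTop ((Scheme.ΓSpecIso (CommRingCat.of k)).inv c)) := by
  letI := stalkAlgebra f (genericPoint X)
  show a.stalkMap (genericPoint S) (X.presheaf.stalkSpecializes _ (X.presheaf.germ ⊤ _ trivial _)) = _
  rw [TopCat.Presheaf.germ_stalkSpecializes_apply, Scheme.Hom.germ_stalkMap_apply, Scheme.Hom.comp_appTop]
  rfl

end Gen

variable {X X' : Scheme.{u}} {f : X ⟶ Spec (CommRingCat.of k)} {f' : X' ⟶ Spec (CommRingCat.of k)}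
  [IsIntegral X] [IsIntegral X']

variable (f f') in
/-- An identification of the function fields over the base. -/
def IsOverIso (σ : X'.presheaf.stalk (genericPoint X') ≃+* X.presheaf.stalk (genericPoint X)) : Prop :=
  letI := stalkAlgebra f (genericPoint X)
  letI := stalkAlgebra f' (genericPoint X')
  ∀ c : k, σ (algebraMap k (X'.presheaf.stalk (genericPoint X')) c) = algebraMap k (X.presheaf.stalk (genericPoint X)) c

theorem IsOverIso.symm {σ : X'.presheaf.stalk (genericPoint X') ≃+* X.presheaf.stalk (genericPoint X)}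
    (h : IsOverIso f f' σ) : IsOverIso f' f σ.symm := by
  letI := stalkAlgebra f (genericPoint X)
  letI := stalkAlgebra f' (genericPoint X')
  exact fun c => σ.symm_apply_eq.2 (h c).symm

/-- Transport of a derivation along an isomorphism of algebras. -/
def conjD {K K' : Type u} [CommRing K] [CommRing K'] [Algebra k K] [Algebra k K'] (σ : K' ≃+* K)
    (hσ : ∀ c : k, σ (algebraMap k K' c) = algebraMap k K c) (D : Derivation k K' K') : Derivation k K K :=
  Derivation.mk'
    { toFun := fun x => σ (D (σ.symm x))
      map_add' := fun x y => by rw [map_add, map_add, map_add]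
      map_smul' := fun c x => by
        have hc : σ.symm (algebraMap k K c) = algebraMap k K' c := σ.symm_apply_eq.2 (hσ c).symm
        rw [Algebra.smul_def, map_mul, hc, Derivation.leibniz, Derivation.map_algebraMap, smul_zero, add_zero,
          smul_eq_mul, map_mul, hσ c, RingHom.id_apply, Algebra.smul_def] }
    fun a b => by
      show σ (D (σ.symm (a * b))) = a • σ (D (σ.symm b)) + b • σ (D (σ.symm a))
      rw [map_mul, Derivation.leibniz, smul_eq_mul, smul_eq_mul, map_add, map_mul, map_mul, RingEquiv.apply_symm_apply,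
        RingEquiv.apply_symm_apply, smul_eq_mul, smul_eq_mul]

/-- A transported derivation. -/
def conjDer {σ : X'.presheaf.stalk (genericPoint X') ≃+* X.presheaf.stalk (genericPoint X)} (hσ : IsOverIso f f' σ) :
    letI := stalkAlgebra f (genericPoint X)
    letI := stalkAlgebra f' (genericPoint X')
    Derivation k (X'.presheaf.stalk (genericPoint X')) (X'.presheaf.stalk (genericPoint X')) →
      Derivation k (X.presheaf.stalk (genericPoint X)) (X.presheaf.stalk (genericPoint X)) :=
  letI := stalkAlgebra f (genericPoint X)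
  letI := stalkAlgebra f' (genericPoint X')
  fun D => conjD σ hσ D

theorem conjDer_apply {σ : X'.presheaf.stalk (genericPoint X') ≃+* X.presheaf.stalk (genericPoint X)}
    (hσ : IsOverIso f f' σ) :
    letI := stalkAlgebra f (genericPoint X)
    letI := stalkAlgebra f' (genericPoint X')
    ∀ (D : Derivation k (X'.presheaf.stalk (genericPoint X')) (X'.presheaf.stalk (genericPoint X'))) x,
      conjDer hσ D x = σ (D (σ.symm x)) := fun _ _ => rfl

theorem conjDer_conjDer {σ : X'.presheaf.stalk (genericPoint X') ≃+* X.presheaf.stalk (genericPoint X)}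
    (hσ : IsOverIso f f' σ) :
    letI := stalkAlgebra f (genericPoint X)
    letI := stalkAlgebra f' (genericPoint X')
    ∀ D : Derivation k (X.presheaf.stalk (genericPoint X)) (X.presheaf.stalk (genericPoint X)),
      conjDer hσ (conjDer hσ.symm D) = D := by
  letI := stalkAlgebra f (genericPoint X)
  letI := stalkAlgebra f' (genericPoint X')
  intro D
  refine Derivation.ext fun x => ?_
  show σ (σ.symm (D (σ.symm.symm (σ.symm x)))) = D x
  simp

variable [QuasiSeparated f] [QuasiSeparated f'] {i n : ℕ} {L : X.Modules} {L' : X'.Modules}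
  (hL : ExtPow.IsExtPow i (Omega.sheaf f) L) (hL' : ExtPow.IsExtPow i (Omega.sheaf f') L')

/-- Two sections have the same values. -/
def Rel {σ : X'.presheaf.stalk (genericPoint X') ≃+* X.presheaf.stalk (genericPoint X)} (hσ : IsOverIso f f' σ)
    (s : Γ(CohB1.tensorPow L n, ⊤)) (s' : Γ(CohB1.tensorPow L' n, ⊤)) : Prop :=
  letI := stalkAlgebra f (genericPoint X)
  letI := stalkAlgebra f' (genericPoint X')
  ∀ D : Fin n × Fin i → Derivation k (X'.presheaf.stalk (genericPoint X')) (X'.presheaf.stalk (genericPoint X')),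
    σ (Lam hL' (isOver_id (genericPoint X')) n D ((CohB1.tensorPow L' n).presheaf.germ ⊤ (genericPoint X') trivial s')) =
      Lam hL (isOver_id (genericPoint X)) n (fun t => conjDer hσ (D t))
        ((CohB1.tensorPow L n).presheaf.germ ⊤ (genericPoint X) trivial s)

theorem Rel.symm {σ : X'.presheaf.stalk (genericPoint X') ≃+* X.presheaf.stalk (genericPoint X)}
    {hσ : IsOverIso f f' σ} {s : Γ(CohB1.tensorPow L n, ⊤)} {s' : Γ(CohB1.tensorPow L' n, ⊤)}
    (h : Rel hL hL' hσ s s') : Rel hL' hL hσ.symm s' s := by
  letI := stalkAlgebra f (genericPoint X)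
  letI := stalkAlgebra f' (genericPoint X')
  intro D
  have := h fun t => conjDer hσ.symm (D t)
  simp only [conjDer_conjDer hσ] at this
  rw [← this, RingEquiv.symm_apply_apply]

variable [Smooth f'] [UniversallyClosed f] [IsLocallyNoetherian X']

theorem Rel.unique {σ : X'.presheaf.stalk (genericPoint X') ≃+* X.presheaf.stalk (genericPoint X)}
    {hσ : IsOverIso f f' σ} {s : Γ(CohB1.tensorPow L n, ⊤)} {s' t' : Γ(CohB1.tensorPow L' n, ⊤)}
    (h : Rel hL hL' hσ s s') (h' : Rel hL hL' hσ s t') : s' = t' :=
  eq_of_values hL' s' t' fun D => σ.injective ((h D).trans (h' D).symm)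

include hL' in
/-- Every form has a transform. -/
theorem exists_rel (hX' : Pi1.IsNormalScheme X')
    {σ : X'.presheaf.stalk (genericPoint X') ≃+* X.presheaf.stalk (genericPoint X)} (hσ : IsOverIso f f' σ)
    (s : Γ(CohB1.tensorPow L n, ⊤)) : ∃ s', Rel hL hL' hσ s s' := by
  letI := stalkAlgebra f (genericPoint X)
  letI := stalkAlgebra f' (genericPoint X')
  classical
  let φ : (Fin n × Fin i → Derivation k (X'.presheaf.stalk (genericPoint X')) (X'.presheaf.stalk (genericPoint X'))) →
      X'.presheaf.stalk (genericPoint X') := fun D =>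
    σ.symm (Lam hL (isOver_id (genericPoint X)) n (fun t => conjDer hσ (D t))
      ((CohB1.tensorPow L n).presheaf.germ ⊤ (genericPoint X) trivial s))
  have hz := isBlockAlt_Lam hL (isOver_id (genericPoint X))
    ((CohB1.tensorPow L n).presheaf.germ ⊤ (genericPoint X) trivial s)
  have hupd : ∀ (D : Fin n × Fin i → Derivation k (X'.presheaf.stalk (genericPoint X')) (X'.presheaf.stalk (genericPoint X'))) t x,
      (fun s => conjDer hσ (Function.update D t x s)) = Function.update (fun s => conjDer hσ (D s)) t (conjDer hσ x) :=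
    fun D t x => funext fun s => Function.apply_update (fun _ => conjDer hσ) D t x s
  have hadd : ∀ x y, conjDer hσ (x + y) = conjDer hσ x + conjDer hσ y := fun x y => Derivation.ext fun a => by
    rw [Derivation.add_apply, conjDer_apply, conjDer_apply, conjDer_apply, Derivation.add_apply, map_add]
  have hsmul : ∀ c x, conjDer hσ (c • x) = σ c • conjDer hσ x := fun c x => Derivation.ext fun a => by
    rw [Derivation.smul_apply, conjDer_apply, conjDer_apply, Derivation.smul_apply, smul_eq_mul, smul_eq_mul, map_mul]
  have hφ : IsBlockAlt φ :=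
    { add := fun D t x y => by simp only [φ, hupd, hadd, hz.add, map_add]
      smul := fun D t c x => by simp only [φ, hupd, hsmul, hz.smul, map_mul, RingEquiv.symm_apply_apply]
      alt := fun D a b b' hb h => by
        simp only [φ]
        rw [hz.alt _ a b b' hb (congrArg (conjDer hσ) h), map_zero] }
  obtain ⟨s', hs'⟩ := exists_section_of_values hL' hX' φ hφ fun ξ hdim D D' hDD' => by
    letI := stalkAlgebra f' ξ
    letI : Algebra k X.functionField := stalkAlgebra f (genericPoint X)
    haveI := (hX' ξ).1
    haveI := (hX' ξ).2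
    haveI : IsDiscreteValuationRing (X'.presheaf.stalk ξ) := Curve17.isDiscreteValuationRing_of_dim_one _ hdim
    let τ : X'.presheaf.stalk ξ →+* X.functionField :=
      σ.toRingHom.comp (X'.presheaf.stalkSpecializes (RH26.gsp ξ)).hom
    have hτ : ∀ x : X.functionField, x ∈ τ.range ∨ x⁻¹ ∈ τ.range := by
      intro x
      obtain ⟨y, hy⟩ | ⟨y, hy⟩ := ValuationRing.isInteger_or_isInteger (X'.presheaf.stalk ξ)
        (K := X'.functionField) (show X'.functionField from σ.symm x)
      · exact Or.inl ⟨y, (congrArg σ hy).trans (σ.apply_symm_apply x)⟩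
      · rcases eq_or_ne x 0 with rfl | hx
        · exact Or.inl ⟨0, map_zero τ⟩
        refine Or.inr ⟨y, eq_inv_of_mul_eq_one_left ?_⟩
        have hy' : (X'.presheaf.stalkSpecializes (RH26.gsp ξ) y : X'.functionField) =
            (show X'.functionField from σ.symm x)⁻¹ := hy
        show σ (X'.presheaf.stalkSpecializes (RH26.gsp ξ) y) * x = 1
        refine (congrArg (σ (X'.presheaf.stalkSpecializes (RH26.gsp ξ) y) * ·) (σ.apply_symm_apply x).symm).trans ?_
        refine (map_mul σ _ _).symm.trans ((congrArg σ ?_).trans (map_one σ))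
        show (X'.presheaf.stalkSpecializes (RH26.gsp ξ) y : X'.functionField) * (show X'.functionField from σ.symm x) = 1
        rw [hy', inv_mul_cancel₀]
        exact fun h => hx (σ.symm.injective (h.trans (map_zero σ.symm).symm))
    let A : ValuationSubring X.functionField := { τ.range with mem_or_inv_mem' := hτ }
    have hmem := val_mem hL s A (fun c => ⟨algebraMap k (X'.presheaf.stalk ξ) c, by
        show σ (X'.presheaf.stalkSpecializes _ _) = _
        rw [stalkSpecializes_algebraMap (f := f')]
        exact hσ c⟩)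
      (X.fromSpecStalk (genericPoint X)) (isPt_fromSpecStalk (genericPoint X)) (fun t => conjDer hσ (D' t)) (by
        rintro t _ ⟨y, rfl⟩
        refine ⟨D t y, ?_⟩
        show σ (X'.presheaf.stalkSpecializes _ (D t y)) = σ (D' t (σ.symm (σ (X'.presheaf.stalkSpecializes _ y))))
        rw [RingEquiv.symm_apply_apply, hDD' t y])
    rw [val_fromSpecStalk] at hmem
    obtain ⟨y, hy⟩ := hmem
    exact ⟨y, (σ.symm_apply_eq.2 hy.symm).symm⟩
  exact ⟨s', fun D => by rw [hs' D]; exact σ.apply_symm_apply _⟩

omit [Smooth f'] [UniversallyClosed f] [IsLocallyNoetherian X'] in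
theorem Lam_germ_smul (c : k) (s : Γ(CohB1.tensorPow L n, ⊤)) :
    letI := stalkAlgebra f (genericPoint X)
    ∀ D, Lam hL (isOver_id (genericPoint X)) n D ((CohB1.tensorPow L n).presheaf.germ ⊤ (genericPoint X) trivial
        ((f.appTop ((Scheme.ΓSpecIso (CommRingCat.of k)).inv c) : Γ(X, ⊤)) • s)) =
      algebraMap k (X.presheaf.stalk (genericPoint X)) c *
        Lam hL (isOver_id (genericPoint X)) n D ((CohB1.tensorPow L n).presheaf.germ ⊤ (genericPoint X) trivial s) := by
  letI := stalkAlgebra f (genericPoint X)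
  intro D
  rw [M1.germ_smul, Lam_smul]
  rfl

/-- Birational invariance of global tensor forms. -/
theorem finrank_eq {X X' : Scheme.{u}} [X.Over (Spec (CommRingCat.of k))] [X'.Over (Spec (CommRingCat.of k))]
    [IsIntegral X] [IsIntegral X'] [IsProper (X ↘ (Spec (CommRingCat.of k)))]
    [IsProper (X' ↘ (Spec (CommRingCat.of k)))] [PerfectField k]
    (hreg : ∀ x : X, IsRegularLocalRing (X.presheaf.stalk x)) (hreg' : ∀ x : X', IsRegularLocalRing (X'.presheaf.stalk x))
    (U : X.Opens) (U' : X'.Opens) (hU : (U : Set X).Nonempty) (e : (U : Scheme.{u}) ≅ (U' : Scheme.{u}))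
    (he : e.hom ≫ U'.ι ≫ (X' ↘ (Spec (CommRingCat.of k))) = U.ι ≫ (X ↘ (Spec (CommRingCat.of k))))
    (i n : ℕ) {L : X.Modules} (hL : ExtPow.IsExtPow i (Omega.sheaf (X ↘ (Spec (CommRingCat.of k)))) L)
    {L' : X'.Modules} (hL' : ExtPow.IsExtPow i (Omega.sheaf (X' ↘ (Spec (CommRingCat.of k)))) L') :
    Module.finrank k (Coh.HH X (CohB1.tensorPow L n) 0) = Module.finrank k (Coh.HH X' (CohB1.tensorPow L' n) 0) := by
  set f := X ↘ Spec (CommRingCat.of k)
  set f' := X' ↘ Spec (CommRingCat.of k)
  haveI : IsLocallyNoetherian X := LocallyOfFiniteType.isLocallyNoetherian f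
  haveI : IsLocallyNoetherian X' := LocallyOfFiniteType.isLocallyNoetherian f'
  haveI := RegSmooth17.smooth_of_regular_of_perfectField f hreg
  haveI := RegSmooth17.smooth_of_regular_of_perfectField f' hreg'
  haveI : Nonempty (U : Scheme.{u}) := ⟨⟨hU.some, hU.some_mem⟩⟩
  haveI : IsIntegral (U : Scheme.{u}) := isIntegral_of_isOpenImmersion U.ι
  let σ := (genEquiv (e.hom ≫ U'.ι)).trans (genEquiv U.ι).symm
  have hσ : IsOverIso f f' σ := by
    letI := stalkAlgebra f (genericPoint X)
    letI := stalkAlgebra f' (genericPoint X')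
    intro c
    show (genEquiv U.ι).symm (genEquiv (e.hom ≫ U'.ι) (algebraMap k (X'.presheaf.stalk (genericPoint X')) c)) = _
    refine (genEquiv U.ι).symm_apply_eq.2 ?_
    rw [genEquiv_algebraMap, genEquiv_algebraMap, Category.assoc, he]
  have hn := RH26.isNormalScheme_of_regular hreg
  have hn' := RH26.isNormalScheme_of_regular hreg'
  choose F hF using fun s => exists_rel hL hL' hn' hσ (n := n) s
  choose G hG using fun s => exists_rel hL' hL hn hσ.symm (n := n) s
  let E : Γ(CohB1.tensorPow L n, ⊤) ≃+ Γ(CohB1.tensorPow L' n, ⊤) :=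
    { toFun := F
      invFun := G
      left_inv := fun s => (hF s).symm.unique hL' hL (hG (F s)) |>.symm
      right_inv := fun s => ((hG s).symm.unique hL hL' (hF (G s))).symm
      map_add' := fun s t => (hF (s + t)).unique hL hL' fun D => by
        simp only [map_add]
        rw [hF s D, hF t D] }
  refine LinearEquiv.finrank_eq (LinearEquiv.ofBijective
    ({ toFun := fun x => (CurveCoh17.hh0 _).symm (E (CurveCoh17.hh0 _ x))
       map_add' := fun x y => by simp only [map_add]
       map_smul' := fun c x => by
        refine (CurveCoh17.hh0 _).injective ?_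
        rw [AddEquiv.apply_symm_apply, RingHom.id_apply]
        show F (CurveCoh17.hh0 _ (Coh.toGlobal f c • x)) = CurveCoh17.hh0 _ (Coh.toGlobal f' c • _)
        rw [CurveCoh17.hh0_smul, CurveCoh17.hh0_smul, AddEquiv.apply_symm_apply]
        refine (hF _).unique hL hL' fun D => ?_
        rw [show ((show Γ(X', ⊤) from Coh.toGlobal f' c) • E (CurveCoh17.hh0 _ x)) =
          ((f'.appTop ((Scheme.ΓSpecIso (CommRingCat.of k)).inv c) : Γ(X', ⊤)) • F (CurveCoh17.hh0 _ x)) from rfl,
          Lam_germ_smul, map_mul, hσ c, hF _ D]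
        exact (Lam_germ_smul hL c _ _).symm } :
      Coh.HH X (CohB1.tensorPow L n) 0 →ₗ[k] Coh.HH X' (CohB1.tensorPow L' n) 0)
    ((CurveCoh17.hh0 _).symm.bijective.comp (E.bijective.comp (CurveCoh17.hh0 _).bijective)))

/-- An isomorphism of modules gives a linear isomorphism on cohomology. -/
def hhLinEquiv (k : Type u) [Field k] {X : Scheme.{u}} [X.Over (Spec (CommRingCat.of k))] {M N : X.Modules} (e : M ≅ N) :
    Coh.HH X M 0 ≃ₗ[k] Coh.HH X N 0 :=
  LinearEquiv.ofLinear (CurveCoh17.hmap k e.hom 0) (CurveCoh17.hmap k e.inv 0)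
    (LinearMap.ext fun x => by
      rw [LinearMap.comp_apply, ← CurveCoh17.hmap_comp, e.inv_hom_id, CurveCoh17.hmap_id]; rfl)
    (LinearMap.ext fun x => by
      rw [LinearMap.comp_apply, ← CurveCoh17.hmap_comp, e.hom_inv_id, CurveCoh17.hmap_id]; rfl)

end Groth.Agent.BiratForms6
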